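import Groth.Agent.CI.Locus
import Groth.Agent.FrobLCI.Vasconcelos
import Mathlib.RingTheory.Etale.Kaehler
import Mathlib.RingTheory.RegularLocalRing.Polynomial
import Mathlib.RingTheory.Smooth.Basic

/-!
# Complete intersection from free cotangent invariants
-/

set_option autoImplicit false
set_option linter.style.haveILetI false

universe u

open TensorProduct Algebra IsLocalRing

namespace Groth.GrpLCI

/-- A local ring with projective differentials and projective `H¹` has projective conormal module. -/
theorem projective_cotangent {k R : Type u} [CommRing k] [CommRing R] [Algebra k R] (X : Extension.{u} k R)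
    [Module.Projective X.Ring Ω[X.Ring⁄k]] [Module.Projective R Ω[R⁄k]]
    [Module.Projective R X.H1Cotangent] : Module.Projective R X.Cotangent := by
  have : Module.Projective R X.CotangentSpace := inferInstanceAs (Module.Projective R (R ⊗[X.Ring] Ω[X.Ring⁄k]))
  obtain ⟨s, hs⟩ := X.toKaehler.exists_rightInverse_of_surjective
    (LinearMap.range_eq_top.2 X.toKaehler_surjective)
  let T := LinearMap.ker X.toKaehler
  have hTproj : Module.Projective R T := Module.Projective.of_split T.subtype
    ((LinearMap.id - s ∘ₗ X.toKaehler).codRestrict T fun y => by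
      show X.toKaehler (y - s (X.toKaehler y)) = 0
      rw [map_sub, sub_eq_zero]
      exact (LinearMap.congr_fun hs (X.toKaehler y)).symm)
    (LinearMap.ext fun y => Subtype.ext (by
      show (y : X.CotangentSpace) - s (X.toKaehler y) = y
      rw [show X.toKaehler (y : X.CotangentSpace) = 0 from y.2, map_zero, sub_zero]))
  let d : X.Cotangent →ₗ[R] T := X.cotangentComplex.codRestrict T fun c =>
    (X.exact_cotangentComplex_toKaehler _).2 ⟨c, rfl⟩
  have hd : Function.Surjective d := fun ⟨y, hy⟩ => by
    obtain ⟨c, rfl⟩ := (X.exact_cotangentComplex_toKaehler y).1 hy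
    exact ⟨c, rfl⟩
  obtain ⟨t, ht⟩ := d.exists_rightInverse_of_surjective (LinearMap.range_eq_top.2 hd)
  have ht' : ∀ y, d (t y) = y := fun y => LinearMap.congr_fun ht y
  let i : X.Cotangent →ₗ[R] X.H1Cotangent × T :=
    ((LinearMap.id - t ∘ₗ d).codRestrict (LinearMap.ker X.cotangentComplex) fun c => by
      show X.cotangentComplex (c - t (d c)) = 0
      rw [map_sub, sub_eq_zero]
      exact congrArg Subtype.val (ht' (d c)).symm).prod d
  refine Module.Projective.of_split i (X.h1Cotangentι.coprod t) (LinearMap.ext fun c => ?_)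
  show (c - t (d c)) + t (d c) = c
  exact sub_add_cancel _ _

/-- A local ring of a finite type algebra over a field with free differentials and free `H¹` is a
complete intersection. -/
theorem isCompleteIntersection_of_free {k B : Type u} [Field k] [CommRing B] [Algebra k B]
    [Algebra.FiniteType k B] (q : Ideal B) [q.IsPrime]
    (h1 : Module.Free (Localization.AtPrime q) (Localization.AtPrime q ⊗[B] H1Cotangent k B))
    (h2 : Module.Free (Localization.AtPrime q) (Localization.AtPrime q ⊗[B] Ω[B⁄k])) :
    Pi1.IsCompleteIntersection (Localization.AtPrime q) := by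
  classical
  obtain ⟨n, φ, hφ⟩ := Algebra.FiniteType.iff_quotient_mvPolynomial''.mp
    (inferInstance : Algebra.FiniteType k B)
  let q' := q.comap φ.toRingHom
  let P' := Localization.AtPrime q'
  let θ : P' →ₐ[k] Localization.AtPrime q := Localization.localAlgHom q' q φ rfl
  have hθ : Function.Surjective θ := Groth.KoszulLCI.surjective_localRingHom φ.toRingHom hφ q
  let X : Extension.{u} k (Localization.AtPrime q) := Extension.ofSurjective θ hθ
  have : FormallySmooth (MvPolynomial (Fin n) k) P' := .of_isLocalization q'.primeCompl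
  have : FormallySmooth k P' := .comp k (MvPolynomial (Fin n) k) P'
  have : FormallySmooth k X.Ring := ‹FormallySmooth k P'›
  have : FormallyEtale B (Localization.AtPrime q) := .of_isLocalization q.primeCompl
  have : Module.Free (Localization.AtPrime q) Ω[Localization.AtPrime q⁄k] := Module.Free.of_equiv
    (KaehlerDifferential.tensorKaehlerEquivOfFormallyEtale k B (Localization.AtPrime q))
  have : Module.Free (Localization.AtPrime q) X.H1Cotangent := Module.Free.of_equiv
    (tensorH1CotangentOfIsLocalization k (Localization.AtPrime q) q.primeCompl ≪≫ₗ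
      X.equivH1CotangentOfFormallySmooth.symm)
  have hproj := projective_cotangent X
  have : IsRegularRing (MvPolynomial (Fin n) k) := MvPolynomial.isRegularRing_of_isRegularRing k
  have : IsRegularLocalRing X.Ring := IsRegularRing.isRegularLocalRing_localization q'
  have : Module.Finite (Localization.AtPrime q) X.Cotangent :=
    Extension.Cotangent.finite (IsNoetherian.noetherian _)
  have : Module.Free (Localization.AtPrime q) X.Cotangent := Module.free_of_flat_of_isLocalRing
  obtain ⟨r, ⟨bas⟩⟩ : ∃ r : ℕ, Nonempty (Module.Basis (Fin r) (Localization.AtPrime q) X.Cotangent) :=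
    ⟨_, ⟨Module.finBasis (Localization.AtPrime q) X.Cotangent⟩⟩
  let e : Localization.AtPrime q ≃+* X.Ring ⧸ X.ker :=
    (RingHom.quotientKerEquivOfSurjective X.algebraMap_surjective).symm
  have he : ∀ c, e (algebraMap X.Ring (Localization.AtPrime q) c) = Ideal.Quotient.mk X.ker c :=
    fun c => RingHom.quotientKerEquivOfSurjective_symm_apply X.algebraMap_surjective c
  let ψ : X.ker →ₗ[X.Ring] (Fin r → X.Ring ⧸ X.ker) :=
    { toFun := fun a j => e (bas.repr (Extension.Cotangent.mk a) j)
      map_add' := fun a b => funext fun j => by simp [map_add]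
      map_smul' := fun c a => funext fun j => by
        rw [map_smul, ← algebraMap_smul (Localization.AtPrime q) c (Extension.Cotangent.mk a), map_smul]
        simp only [Finsupp.smul_apply, smul_eq_mul, map_mul, he, RingHom.id_apply, Pi.smul_apply,
          Algebra.smul_def, Ideal.Quotient.algebraMap_eq] }
  choose y hy using fun i => Extension.Cotangent.mk_surjective (bas i)
  have hψ : ∀ i, ψ (y i) = Pi.single i 1 := fun i => funext fun j => by
    show e (bas.repr (Extension.Cotangent.mk (y i)) j) = _
    rw [hy, Module.Basis.repr_self, Finsupp.single_apply, Pi.single_apply]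
    by_cases h : i = j
    · subst h; simp
    · rw [if_neg h, if_neg (Ne.symm h), map_zero]
  have hne : X.ker ≠ ⊤ := RingHom.ker_ne_top _
  obtain ⟨x, hx, hreg⟩ := Groth.FrobLCI.Vasconcelos.exists_isWeaklyRegular r X.Ring X.ker hne _
    (Groth.Ega4Algebra1.pdLT_of_isRegularLocalRing X.Ring _ rfl X.ker) y ψ hψ
  have hxI : ∀ i, x i ∈ X.ker := fun i => by
    simpa using add_mem (Ideal.pow_le_self two_ne_zero (hx i)) (y i).2
  have hgen : X.ker ≤ Ideal.span (Set.range x) := by
    refine Submodule.le_of_le_smul_of_le_jacobson_bot (I := X.ker) (IsNoetherian.noetherian _)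
      ((le_maximalIdeal hne).trans (maximalIdeal_le_jacobson _)) fun v hv => ?_
    choose c hc using fun i => X.algebraMap_surjective (bas.repr (Extension.Cotangent.mk ⟨v, hv⟩) i)
    have h1 : Extension.Cotangent.mk (∑ i, c i • (⟨x i, hxI i⟩ : X.ker)) =
        Extension.Cotangent.mk ⟨v, hv⟩ := by
      rw [map_sum]
      refine Eq.trans (Finset.sum_congr rfl fun i _ => ?_) (bas.sum_repr _)
      rw [map_smul, ← hy, show Extension.Cotangent.mk ⟨x i, hxI i⟩ = Extension.Cotangent.mk (y i) from
        (Extension.Cotangent.mk_eq_mk_iff_sub_mem _ _).2 (hx i), ← hc, algebraMap_smul]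
    rw [Extension.Cotangent.mk_eq_mk_iff_sub_mem] at h1
    simp only [Submodule.coe_sum, Submodule.coe_smul, smul_eq_mul] at h1
    rw [← sub_sub_cancel (∑ i, c i * x i) v]
    refine Submodule.mem_sup.2 ⟨_, Ideal.sum_mem _ fun i _ => Ideal.mul_mem_left _ _ (Ideal.subset_span ⟨i, rfl⟩),
      -((∑ i, c i * x i) - v), neg_mem ?_, by rw [← sub_eq_add_neg]⟩
    rw [smul_eq_mul, ← sq]
    exact h1
  refine (Groth.CI.isCompleteIntersection_iff_of_surjective (algebraMap X.Ring _) X.algebraMap_surjective).2
    ⟨List.ofFn x, ?_, RingTheory.Sequence.IsRegular.of_isWeaklyRegular_of_mem_maximalIdeal X.Ring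
      (fun a ha => ?_) hreg⟩
  · show Ideal.span {a | a ∈ List.ofFn x} = X.ker
    rw [show {a | a ∈ List.ofFn x} = Set.range x from Set.ext fun a => List.mem_ofFn]
    exact le_antisymm (Ideal.span_le.2 (Set.range_subset_iff.2 hxI)) hgen
  · obtain ⟨i, rfl⟩ := List.mem_ofFn.1 ha
    exact le_maximalIdeal hne (hxI i)

end Groth.GrpLCI
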