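import Mathlib.AlgebraicGeometry.Stalk
import Mathlib.AlgebraicGeometry.OpenImmersion
import Mathlib.RingTheory.Localization.AtPrime.Basic

/-!
# Morphisms from local spectra which are stalk embeddings
-/

set_option autoImplicit false
set_option linter.style.haveILetI false

universe u

open AlgebraicGeometry CategoryTheory IsLocalRing

namespace Groth.GrpLCI

variable {R : CommRingCat.{u}} [IsLocalRing R] {X Y : Scheme.{u}}

/-- `f : Spec R ⟶ X` identifies `R` with the local ring at the image of the closed point. -/
def IsStalkEmb (f : Spec R ⟶ X) : Prop :=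
  IsIso (Scheme.stalkClosedPointTo f)

theorem isStalkEmb_comp_iff (f : Spec R ⟶ X) (g : X ⟶ Y) [IsOpenImmersion g] :
    IsStalkEmb (f ≫ g) ↔ IsStalkEmb f := by
  unfold IsStalkEmb
  rw [Scheme.stalkClosedPointTo_comp]
  let y : X := f (closedPoint R)
  have hb : Function.Bijective (g.stalkMap y).hom := ConcreteCategory.bijective_of_isIso (g.stalkMap y)
  rw [ConcreteCategory.isIso_iff_bijective, ConcreteCategory.isIso_iff_bijective]
  exact Function.Bijective.of_comp_iff (⇑(Scheme.stalkClosedPointTo f).hom) hb

/-- `T_P → R` induced by a map to a local ring. -/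
theorem exists_stalkHom {T : CommRingCat.{u}} (ψ : T ⟶ R) :
    ∃ φ : CommRingCat.of (Localization.AtPrime ((Spec.map ψ) (closedPoint R)).asIdeal) ⟶ R,
      CommRingCat.ofHom (algebraMap T _) ≫ φ = ψ ∧ (IsStalkEmb (Spec.map ψ) ↔ IsIso φ) := by
  refine ⟨(Spec.stalkIso T _).inv ≫ Scheme.stalkClosedPointTo (Spec.map ψ), ?_,
    (isIso_comp_left_iff _ _).symm⟩
  rw [← Category.assoc, Spec.algebraMap_stalkIso_inv, Category.assoc,
    Scheme.germ_stalkClosedPointTo_Spec, Iso.inv_hom_id_assoc]

/-- Stalk embeddings into an affine scheme are localizations. -/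
theorem exists_isLocalization_of_isStalkEmb {T : CommRingCat.{u}} (ψ : T ⟶ R)
    (h : IsStalkEmb (Spec.map ψ)) :
    letI := ψ.hom.toAlgebra
    ∃ M : Submonoid T, IsLocalization M R := by
  letI := ψ.hom.toAlgebra
  obtain ⟨φ, hφ, hiff⟩ := exists_stalkHom ψ
  have := hiff.1 h
  refine ⟨((Spec.map ψ) (closedPoint R)).asIdeal.primeCompl, IsLocalization.isLocalization_of_algEquiv _
    (AlgEquiv.ofBijective ({ φ.hom with commutes' := fun r => congr($hφ r) } :
      Localization.AtPrime ((Spec.map ψ) (closedPoint R)).asIdeal →ₐ[T] R) ?_)⟩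
  exact ConcreteCategory.bijective_of_isIso φ

/-- Localizations at primes are stalk embeddings. -/
theorem isStalkEmb_SpecMap {T : Type u} [CommRing T] (P : Ideal T) [P.IsPrime] :
    IsStalkEmb (Spec.map (CommRingCat.ofHom (algebraMap T (Localization.AtPrime P)))) := by
  obtain ⟨φ, hφ, hiff⟩ := exists_stalkHom (CommRingCat.ofHom (algebraMap T (Localization.AtPrime P)))
  rw [hiff, ConcreteCategory.isIso_iff_bijective]
  let x := (Spec.map (CommRingCat.ofHom (algebraMap T (Localization.AtPrime P))))
    (closedPoint (CommRingCat.of (Localization.AtPrime P)))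
  have hxP : P = x.asIdeal := IsLocalization.AtPrime.comap_maximalIdeal (Localization.AtPrime P) P |>.symm
  have : IsLocalization.AtPrime (Localization.AtPrime P) x.asIdeal := by
    unfold IsLocalization.AtPrime
    have h1 : x.asIdeal.primeCompl = P.primeCompl := by
      ext a; show a ∉ x.asIdeal ↔ a ∉ P; rw [← hxP]
    rw [h1]; infer_instance
  have heq : φ.hom = (IsLocalization.algEquiv x.asIdeal.primeCompl (Localization.AtPrime x.asIdeal)
      (Localization.AtPrime P)).toRingEquiv.toRingHom :=
    IsLocalization.ringHom_ext x.asIdeal.primeCompl (RingHom.ext fun a => by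
      refine (congr($hφ a)).trans ?_
      exact ((IsLocalization.algEquiv x.asIdeal.primeCompl (Localization.AtPrime x.asIdeal)
        (Localization.AtPrime P)).commutes a).symm)
  show Function.Bijective φ.hom
  rw [heq]
  exact (IsLocalization.algEquiv x.asIdeal.primeCompl (Localization.AtPrime x.asIdeal)
    (Localization.AtPrime P)).bijective

end Groth.GrpLCI
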