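import Groth.Agent.GrpLCI.Homogeneous
import Groth.Agent.GrpLCI.Criterion
import Groth.Agent.GrpLCI.StalkEmb
import Groth.Agent.GrpschAbsch.Cartier
import Groth.Agent.GrpschAbsch.Basic
import Groth.Prelude.Def_CInt

/-!
# Group schemes locally of finite type over a field are local complete intersections
-/

set_option autoImplicit false
set_option linter.style.haveILetI false

universe u

open CategoryTheory CategoryTheory.Limits MonoidalCategory CartesianMonoidalCategory MonObj
  AlgebraicGeometry IsLocalRing TensorProduct
open Groth.GrpschAbsch (specOver specOverMap specOverMap_comp)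

namespace Groth.GrpLCI

variable {k : Type u} [Field k] {G : Over (Spec (CommRingCat.of k))}

theorem specOverMap_left {R R' : Type u} [CommRing R] [CommRing R'] [Algebra k R] [Algebra k R']
    (h : R →ₐ[k] R') : (specOverMap h).left = Spec.map (CommRingCat.ofHom h.toRingHom) := rfl

/-- A ring map over `Spec k` is an algebra homomorphism. -/
theorem exists_algHom {R R' : Type u} [CommRing R] [CommRing R'] [Algebra k R] [Algebra k R']
    (f : CommRingCat.of R ⟶ CommRingCat.of R')
    (h : Spec.map f ≫ (specOver k R).hom = (specOver k R').hom) :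
    ∃ φ : R →ₐ[k] R', CommRingCat.ofHom φ.toRingHom = f := by
  have h' : CommRingCat.ofHom (algebraMap k R) ≫ f = CommRingCat.ofHom (algebraMap k R') :=
    Spec.map_injective (by rw [Spec.map_comp]; exact h)
  exact ⟨{ f.hom with commutes' := fun c => congr($h' c) }, rfl⟩

/-- Morphisms over `k` into an affine chart come from algebra homomorphisms. -/
theorem exists_algHom_of_range_subset {B R : Type u} [CommRing B] [CommRing R] [Algebra k B] [Algebra k R]
    (u : specOver k B ⟶ G) [IsOpenImmersion u.left] (g : specOver k R ⟶ G)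
    (h : Set.range g.left ⊆ Set.range u.left) :
    ∃ φ : B →ₐ[k] R, specOverMap φ ≫ u = g := by
  let l := IsOpenImmersion.lift u.left g.left h
  have hl : l ≫ u.left = g.left := IsOpenImmersion.lift_fac u.left g.left h
  obtain ⟨φ, hφ⟩ := exists_algHom (k := k) (R := B) (R' := R) (Spec.preimage l) (by
    rw [Spec.map_preimage, ← Over.w u, ← Category.assoc, hl]
    exact Over.w g)
  refine ⟨φ, Over.OverMorphism.ext ?_⟩
  rw [Over.comp_left, specOverMap_left, hφ, Spec.map_preimage]
  exact hl

/-- The product of two charts. -/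
noncomputable def chartMap {B E : Type u} [CommRing B] [CommRing E] [Algebra k B] [Algebra k E]
    (u : specOver k B ⟶ G) (w : specOver k E ⟶ G) : specOver k (B ⊗[k] E) ⟶ G ⊗ G :=
  lift (specOverMap Algebra.TensorProduct.includeLeft ≫ u)
    (specOverMap Algebra.TensorProduct.includeRight ≫ w)

theorem isOpenImmersion_chartMap {B E : Type u} [CommRing B] [CommRing E] [Algebra k B] [Algebra k E]
    (u : specOver k B ⟶ G) (w : specOver k E ⟶ G) [IsOpenImmersion u.left] [IsOpenImmersion w.left] :
    IsOpenImmersion (chartMap u w).left := by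
  let p := pullback.map (specOver k B).hom (specOver k E).hom G.hom G.hom u.left w.left (𝟙 _)
    ((Category.comp_id _).trans (Over.w u).symm) ((Category.comp_id _).trans (Over.w w).symm)
  have hp : IsOpenImmersion p :=
    MorphismProperty.pullbackMap (P := @IsOpenImmersion) ‹_› ‹_› (Over.w u).symm (Over.w w).symm
  have h : (chartMap u w).left = (pullbackSpecIso k B E).inv ≫ p := by
    refine pullback.hom_ext ?_ ?_
    · show (chartMap u w ≫ fst G G).left = _
      rw [chartMap, lift_fst, Over.comp_left, Category.assoc, pullback.lift_fst, ← Category.assoc]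
      exact (congrArg (· ≫ u.left) (pullbackSpecIso_inv_fst k B E)).symm
    · show (chartMap u w ≫ snd G G).left = _
      rw [chartMap, lift_snd, Over.comp_left, Category.assoc, pullback.lift_snd, ← Category.assoc]
      exact (congrArg (· ≫ w.left) (pullbackSpecIso_inv_snd k B E)).symm
  rw [h]
  infer_instance

theorem specOverMap_productMap_chartMap {B E C : Type u} [CommRing B] [CommRing E] [CommRing C]
    [Algebra k B] [Algebra k E] [Algebra k C] (u : specOver k B ⟶ G) (w : specOver k E ⟶ G)
    (α : B →ₐ[k] C) (β : E →ₐ[k] C) :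
    specOverMap (Algebra.TensorProduct.productMap α β) ≫ chartMap u w =
      lift (specOverMap α ≫ u) (specOverMap β ≫ w) := by
  rw [chartMap, comp_lift, ← Category.assoc, specOverMap_comp, Algebra.TensorProduct.productMap_left,
    ← Category.assoc, specOverMap_comp, Algebra.TensorProduct.productMap_right]

/-- Being a localization of the tensor product, read on the spectra. -/
theorem isLocTensor_iff {B E C : Type u} [CommRing B] [CommRing E] [CommRing C] [IsLocalRing C]
    [Algebra k B] [Algebra k E] [Algebra k C] (u : specOver k B ⟶ G) (w : specOver k E ⟶ G)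
    [IsOpenImmersion u.left] [IsOpenImmersion w.left] (α : B →ₐ[k] C) (β : E →ₐ[k] C)
    (h : IsStalkEmb (R := CommRingCat.of C) (lift (specOverMap α ≫ u) (specOverMap β ≫ w)).left) :
    IsLocTensor k B E C α β := by
  have := isOpenImmersion_chartMap u w
  rw [← specOverMap_productMap_chartMap, Over.comp_left] at h
  exact exists_isLocalization_of_isStalkEmb _ ((isStalkEmb_comp_iff _ _).1 h)

/-- An affine chart around a point. -/
theorem exists_chart [LocallyOfFiniteType G.hom] (x : G.left) :
    ∃ (B : Type u) (_ : CommRing B) (_ : Algebra k B) (u : specOver k B ⟶ G),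
      IsOpenImmersion u.left ∧ Algebra.FiniteType k B ∧ x ∈ Set.range u.left := by
  obtain ⟨U, hU, hxU, -⟩ := exists_isAffineOpen_mem_and_subset (x := x) (U := ⊤) trivial
  let f : CommRingCat.of k ⟶ Γ(G.left, U) := Spec.preimage (hU.fromSpec ≫ G.hom)
  letI := f.hom.toAlgebra
  have hf : (specOver k Γ(G.left, U)).hom = hU.fromSpec ≫ G.hom := Spec.map_preimage _
  refine ⟨Γ(G.left, U), inferInstance, inferInstance, Over.homMk hU.fromSpec hf.symm,
    inferInstanceAs (IsOpenImmersion hU.fromSpec), ?_, ?_⟩
  · have h1 : LocallyOfFiniteType (Spec.map f) := by rw [Spec.map_preimage]; infer_instance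
    exact (HasRingHomProperty.Spec_iff (P := @LocallyOfFiniteType)).1 h1
  · show x ∈ Set.range hU.fromSpec
    rw [hU.range_fromSpec]
    exact hxU

/-- **The local rings of a group scheme locally of finite type over a field are complete
intersections.** -/
theorem isCompleteIntersection_stalk (G : Over (Spec (CommRingCat.of k))) [GrpObj G]
    [LocallyOfFiniteType G.hom] (x : G.left) :
    Pi1.IsCompleteIntersection (G.left.presheaf.stalk x) := by
  obtain ⟨B, _, _, u, hu, hB, ⟨y, rfl⟩⟩ := exists_chart x
  let o : specOver k k ⟶ G := 1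
  obtain ⟨E, _, _, w, hw, hE, hew⟩ := exists_chart (o.left (closedPoint k))
  have hrange : Set.range o.left ⊆ Set.range w.left := by
    rintro _ ⟨z, rfl⟩
    rwa [Subsingleton.elim (α := PrimeSpectrum k) z (closedPoint k)]
  obtain ⟨ε, hε⟩ := exists_algHom_of_range_subset w o hrange
  let q := y.asIdeal
  let R := Localization.AtPrime q
  let σ₀ : B ⊗[k] E →ₐ[k] R :=
    Algebra.TensorProduct.productMap (IsScalarTower.toAlgHom k B R) ((Algebra.ofId k R).comp ε)
  let P : Ideal (B ⊗[k] E) := (maximalIdeal R).comap σ₀.toRingHom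
  have hP : P.IsPrime := Ideal.IsPrime.comap _
  let C := Localization.AtPrime P
  let σ : C →ₐ[k] R := IsLocalization.liftAlgHom (M := P.primeCompl) (f := σ₀)
    fun t => IsLocalRing.notMem_maximalIdeal.1 t.2
  have hσ : ∀ t, σ (algebraMap (B ⊗[k] E) C t) = σ₀ t := fun t => by simp [σ, C]
  have hσloc : IsLocalHom σ.toRingHom := ⟨fun a ha => by
    obtain ⟨t, s, rfl⟩ := IsLocalization.exists_mk'_eq P.primeCompl a
    refine (IsLocalization.AtPrime.isUnit_mk'_iff C P t s).2 fun (ht : t ∈ P) => ?_
    have h1 : σ₀ t = σ (IsLocalization.mk' C t s) * σ₀ s := by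
      rw [← hσ, ← hσ, ← map_mul, IsLocalization.mk'_spec]
    have h2 : IsUnit (σ₀ t) := h1 ▸ ha.mul (IsLocalRing.notMem_maximalIdeal.1 s.2)
    exact IsLocalRing.notMem_maximalIdeal.2 h2 ht⟩
  let loc : B ⊗[k] E →ₐ[k] C := IsScalarTower.toAlgHom k (B ⊗[k] E) C
  let α : B →ₐ[k] C := loc.comp Algebra.TensorProduct.includeLeft
  let β : E →ₐ[k] C := loc.comp Algebra.TensorProduct.includeRight
  have hloc : Algebra.TensorProduct.productMap α β = loc := by
    ext <;> simp [α, β, ← map_mul]
  have hσα : σ.comp α = IsScalarTower.toAlgHom k B R := AlgHom.ext fun b => by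
    simp [α, loc, hσ, σ₀]
  have hσβ : σ.comp β = (Algebra.ofId k R).comp ε := AlgHom.ext fun e => by
    simp [β, loc, hσ, σ₀]
  -- the point `x * 1 = x`
  let g : specOver k R ⟶ G := specOverMap (IsScalarTower.toAlgHom k B R) ≫ u
  have hone : specOverMap σ ≫ specOverMap β ≫ w = 1 := by
    rw [← Category.assoc, specOverMap_comp, hσβ, ← specOverMap_comp, Category.assoc, hε]
    exact MonObj.comp_one _
  let m : specOver k C ⟶ G := (specOverMap α ≫ u) * (specOverMap β ≫ w)
  have hm : specOverMap σ ≫ m = g := by
    rw [MonObj.comp_mul, hone, _root_.mul_one, ← Category.assoc, specOverMap_comp, hσα]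
  have hclosed : m.left (closedPoint (CommRingCat.of C)) = u.left y := by
    have h1 := congrArg (fun t : specOver k R ⟶ G => t.left (closedPoint (CommRingCat.of R))) hm
    simp only [Over.comp_left, Scheme.Hom.comp_apply, specOverMap_left] at h1
    have : IsLocalHom (CommRingCat.ofHom σ.toRingHom).hom := hσloc
    rw [Spec_closedPoint] at h1
    rw [h1]
    show u.left (Spec.map (CommRingCat.ofHom (IsScalarTower.toAlgHom k B R).toRingHom)
      (closedPoint (CommRingCat.of R))) = u.left y
    refine congrArg (⇑u.left) (PrimeSpectrum.ext ?_)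
    exact IsLocalization.AtPrime.under_maximalIdeal R q
  have hrangem : Set.range m.left ⊆ Set.range u.left := by
    rintro _ ⟨z, rfl⟩
    exact ((IsLocalRing.specializes_closedPoint z).map m.left.continuous).mem_open
      u.left.isOpenEmbedding.isOpen_range (hclosed ▸ ⟨y, rfl⟩)
  obtain ⟨mu, hmu⟩ := exists_algHom_of_range_subset u m hrangem
  have hσmu : ∀ b, σ (mu b) = algebraMap B R b := by
    have h1 : specOverMap (σ.comp mu) ≫ u = specOverMap (IsScalarTower.toAlgHom k B R) ≫ u := by
      rw [← specOverMap_comp, Category.assoc, hmu, hm]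
    have h2 := congrArg CommaMorphism.left h1
    simp only [Over.comp_left, cancel_mono, specOverMap_left] at h2
    intro b
    exact congr($(Spec.map_injective h2) b)
  -- both localizations
  have hemb : IsStalkEmb (R := CommRingCat.of C) (lift (specOverMap α ≫ u) (specOverMap β ≫ w)).left := by
    rw [← specOverMap_productMap_chartMap, hloc, Over.comp_left]
    have := isOpenImmersion_chartMap u w
    exact (isStalkEmb_comp_iff _ _).2 (isStalkEmb_SpecMap P)
  have hemb' : IsStalkEmb (R := CommRingCat.of C) (lift (specOverMap α ≫ u) (specOverMap mu ≫ u)).left := by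
    have h1 : lift (specOverMap α ≫ u) (specOverMap mu ≫ u) =
        lift (specOverMap α ≫ u) (specOverMap β ≫ w) ≫ (Groth.GrpschAbsch.shearL (𝟙 G)).hom := by
      rw [hmu, Groth.GrpschAbsch.shearL_hom, comp_lift, MonObj.comp_mul]
      simp [m]
    rw [h1, Over.comp_left]
    have : IsOpenImmersion (Groth.GrpschAbsch.shearL (𝟙 G)).hom.left := inferInstance
    exact (isStalkEmb_comp_iff _ _).2 hemb
  obtain ⟨f1, f2⟩ := free_of_homogeneous k B B E C R α mu β ε σ (isLocTensor_iff u u α mu hemb')
    (isLocTensor_iff u w α β hemb) hσmu (fun e => congr($hσβ e))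
  have hci := isCompleteIntersection_of_free q f1 f2
  let e' : G.left.presheaf.stalk (u.left y) ≃+* R :=
    ((asIso (u.left.stalkMap y)) ≪≫ Spec.stalkIso (CommRingCat.of B) y).commRingCatIsoToRingEquiv
  exact Groth.CI.isCompleteIntersection_of_ringEquiv e'.symm hci

end Groth.GrpLCI

namespace Groth.GrpLCI

open AlgebraicGeometry CategoryTheory CategoryTheory.Limits in
/-- The fibres of a group scheme locally of finite type are complete intersections. -/
theorem isCompleteIntersection_fiberStalk {S : Scheme.{u}} (G : Over S) [GrpObj G]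
    [LocallyOfFiniteType G.hom] (x : G.left) :
    Pi1.IsCompleteIntersection (CInt.fiberStalk G.hom x) := by
  let H := (Over.pullback (S.fromSpecResidueField (G.hom x))).obj G
  letI : GrpObj H := Functor.grpObjObj
  have : LocallyOfFiniteType H.hom :=
    inferInstanceAs (LocallyOfFiniteType (pullback.snd G.hom (S.fromSpecResidueField (G.hom x))))
  exact isCompleteIntersection_stalk (k := S.residueField (G.hom x)) H (G.hom.asFiber x)

end Groth.GrpLCI
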