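import Mathlib.RingTheory.Etale.Kaehler
import Mathlib.RingTheory.Extension.Cotangent.BaseChange
import Mathlib.RingTheory.Kaehler.TensorProduct

/-!
# Differentials and `H¹` of the naive cotangent complex along a homogeneity map

If two ring maps `B → C`, `E → C` become, next to a common `A → C`, localizations of `A ⊗ B` and
`A ⊗ E`, then the cotangent invariants of `B` and `E` agree after base change to `C`.
-/

set_option autoImplicit false
set_option linter.style.haveILetI false

universe u

open TensorProduct Algebra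

namespace Groth.GrpLCI

variable (k A E : Type u) [CommRing k] [CommRing A] [CommRing E] [Algebra k A] [Algebra k E]

attribute [local instance] Algebra.TensorProduct.rightAlgebra in
/-- Flat base change for `H¹`, linearly over the tensor product. -/
theorem nonempty_h1TensorEquiv [Module.Flat k A] :
    Nonempty ((A ⊗[k] E) ⊗[E] H1Cotangent k E ≃ₗ[A ⊗[k] E] H1Cotangent A (A ⊗[k] E)) := by
  let L := (H1Cotangent.map k A E (A ⊗[k] E)).liftBaseChange (A ⊗[k] E)
  let e₁ := Algebra.IsPushout.cancelBaseChange k A E (A ⊗[k] E) (H1Cotangent k E)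
  let e₂ := tensorH1CotangentOfFlat k E A
  have key : ∀ x, L (e₁.symm x) = e₂ x := by
    intro x
    induction x with
    | zero => simp
    | add x y hx hy => simp only [map_add, hx, hy]
    | tmul a m =>
      rw [Algebra.IsPushout.cancelBaseChange_symm_tmul, LinearMap.liftBaseChange_tmul,
        tensorH1CotangentOfFlat_tmul, algebraMap_smul]
  refine ⟨LinearEquiv.ofBijective L ?_⟩
  have h : ⇑L = ⇑e₂ ∘ ⇑e₁ := funext fun x => by
    rw [Function.comp_apply, ← key, LinearEquiv.symm_apply_apply]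
  rw [h]
  exact e₂.bijective.comp e₁.bijective

variable (C : Type u) [CommRing C] [Algebra k C] (α : A →ₐ[k] C) (β : E →ₐ[k] C)

/-- `C` is a localization of `A ⊗ E`. -/
def IsLocTensor : Prop :=
  letI := (Algebra.TensorProduct.productMap α β).toRingHom.toAlgebra
  ∃ M : Submonoid (A ⊗[k] E), IsLocalization M C

attribute [local instance] Algebra.TensorProduct.rightAlgebra in
/-- `H¹` and differentials of `C` over `A` come from those of `E` over `k`. -/
theorem nonempty_equiv [Module.Flat k A] (h : IsLocTensor k A E C α β) :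
    letI := α.toRingHom.toAlgebra
    letI := β.toRingHom.toAlgebra
    Nonempty (C ⊗[E] H1Cotangent k E ≃ₗ[C] H1Cotangent A C) ∧
      Nonempty (C ⊗[E] Ω[E⁄k] ≃ₗ[C] Ω[C⁄A]) := by
  letI := α.toRingHom.toAlgebra
  letI := β.toRingHom.toAlgebra
  letI := (Algebra.TensorProduct.productMap α β).toRingHom.toAlgebra
  obtain ⟨M, hM⟩ := h
  have : IsScalarTower A (A ⊗[k] E) C := IsScalarTower.of_algebraMap_eq fun a => by
    show α a = Algebra.TensorProduct.productMap α β (a ⊗ₜ 1)
    simp
  have : IsScalarTower E (A ⊗[k] E) C := IsScalarTower.of_algebraMap_eq fun e => by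
    show β e = Algebra.TensorProduct.productMap α β (1 ⊗ₜ e)
    simp
  have : Algebra.FormallyEtale (A ⊗[k] E) C := .of_isLocalization M
  have : Algebra.IsPushout k A E (A ⊗[k] E) := inferInstance
  obtain ⟨e₁⟩ := nonempty_h1TensorEquiv k A E
  refine ⟨⟨?_⟩, ⟨?_⟩⟩
  · exact (AlgebraTensorModule.cancelBaseChange E (A ⊗[k] E) C C (H1Cotangent k E)).symm ≪≫ₗ
      AlgebraTensorModule.congr (.refl C C) e₁ ≪≫ₗ tensorH1CotangentOfIsLocalization A C M
  · exact (AlgebraTensorModule.cancelBaseChange E (A ⊗[k] E) C C Ω[E⁄k]).symm ≪≫ₗ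
      AlgebraTensorModule.congr (.refl C C) (KaehlerDifferential.tensorKaehlerEquiv k A E (A ⊗[k] E)) ≪≫ₗ
      KaehlerDifferential.tensorKaehlerEquivOfFormallyEtale A (A ⊗[k] E) C

end Groth.GrpLCI

namespace Groth.GrpLCI

variable (k A B E C : Type u) [Field k] [CommRing A] [CommRing B] [CommRing E] [CommRing C]
  [Algebra k A] [Algebra k B] [Algebra k E] [Algebra k C] (R : Type u) [CommRing R] [Algebra k R]
  [Algebra B R]

/-- Homogeneity makes the cotangent invariants free: `σ` retracts both structure maps of `B` to the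
given one and sends `E` to the scalars. -/
theorem free_of_homogeneous (α : A →ₐ[k] C) (μ : B →ₐ[k] C) (β : E →ₐ[k] C) (ε : E →ₐ[k] k)
    (σ : C →ₐ[k] R) (hμ : IsLocTensor k A B C α μ) (hβ : IsLocTensor k A E C α β)
    (hσμ : ∀ b, σ (μ b) = algebraMap B R b) (hσβ : ∀ e, σ (β e) = algebraMap k R (ε e)) :
    Module.Free R (R ⊗[B] H1Cotangent k B) ∧ Module.Free R (R ⊗[B] Ω[B⁄k]) := by
  letI := α.toRingHom.toAlgebra
  letI := μ.toRingHom.toAlgebra
  letI := β.toRingHom.toAlgebra
  letI := σ.toRingHom.toAlgebra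
  letI := ε.toRingHom.toAlgebra
  letI : Algebra E R := ((algebraMap k R).comp ε.toRingHom).toAlgebra
  have : IsScalarTower B C R := IsScalarTower.of_algebraMap_eq fun b => (hσμ b).symm
  have : IsScalarTower E C R := IsScalarTower.of_algebraMap_eq fun e => (hσβ e).symm
  have : IsScalarTower E k R := IsScalarTower.of_algebraMap_eq fun _ => rfl
  obtain ⟨⟨a₁⟩, ⟨b₁⟩⟩ := nonempty_equiv k A B C α μ hμ
  obtain ⟨⟨a₂⟩, ⟨b₂⟩⟩ := nonempty_equiv k A E C α β hβ
  constructor
  · exact Module.Free.of_equiv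
      (AlgebraTensorModule.cancelBaseChange E k R R (H1Cotangent k E) ≪≫ₗ
        (AlgebraTensorModule.cancelBaseChange E C R R (H1Cotangent k E)).symm ≪≫ₗ
        AlgebraTensorModule.congr (.refl R R) (a₂ ≪≫ₗ a₁.symm) ≪≫ₗ
        AlgebraTensorModule.cancelBaseChange B C R R (H1Cotangent k B))
  · exact Module.Free.of_equiv
      (AlgebraTensorModule.cancelBaseChange E k R R Ω[E⁄k] ≪≫ₗ
        (AlgebraTensorModule.cancelBaseChange E C R R Ω[E⁄k]).symm ≪≫ₗ
        AlgebraTensorModule.congr (.refl R R) (b₂ ≪≫ₗ b₁.symm) ≪≫ₗ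
        AlgebraTensorModule.cancelBaseChange B C R R Ω[B⁄k])

end Groth.GrpLCI
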